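import Cfsg.Agent.H0.OJ3.D
set_option maxRecDepth 100000
set_option Elab.async false
set_option linter.unusedSectionVars false
namespace H0.OJ3
open H0 BN 
theorem defs_ok : DefsOK R.p defs 9 := defsOK_of_chk c40
universe u
variable {G : Type u} [Group G] [Finite G] (m0 : Model G) (h0 : m0.R = H0.MJ3.R)
noncomputable def m : Model G := m0.ext (lg := nat_lit 13) (N := nat_lit 8192) (l := H0.MJ3.nl) h0 nl nl_ok 9 rfl defs defs_ok (by decide +kernel)
theorem mR : (m m0 h0).R = R := rfl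
variable (hb : m0.pst [2, 1, 0] = ⊥) (hc : Nat.card G = 50232960)
include h0 hb hc
theorem base : (m m0 h0).pst [2, 1, 0] = ⊥ := hb
omit hb hc in
theorem xch_ok : (m m0 h0).ChainOK xch [] := ((m m0 h0).chain_cons [0, 1, 0, 1, 0, 1, 0, 1, 0, 1, 0, 1, 0, 1, 0, 1, 0, 1, 0, 1, 0, 0] (Model.via _ (mR m0 h0) (fun R => Model.fixP R [] [[12], [13]]) c4) (Model.via _ (mR m0 h0) (fun R => Model.growP R [[12], [13]] [0, 1, 0, 1, 0, 1, 0, 1, 0, 1, 0, 1, 0, 1, 0, 1, 0, 1, 0, 1, 0, 0] 4020 6156) c5) ((m m0 h0).chain_cons [0, 1, 0, 1, 0, 1, 0, 1, 0, 1, 0, 1, 0, 1, 0, 1, 0, 1, 0] (Model.via _ (mR m0 h0) (fun R => Model.fixP R [4020] [[14], [15]]) c2) (Model.via _ (mR m0 h0) (fun R => Model.growP R [[14], [15]] [0, 1, 0, 1, 0, 1, 0, 1, 0, 1, 0, 1, 0, 1, 0, 1, 0, 1, 0] 1049 2040) c3) ((m m0 h0).chain_cons [0, 0, 0] (Model.via _ (mR m0 h0) (fun R => Model.fixP R [1049, 4020] [[16]]) c0) (Model.via _ (mR m0 h0) (fun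 R => Model.growP R [[16]] [0, 0, 0] 932 4) c1) ((m m0 h0).chain_nil _))))
theorem xtop : gen (m m0 h0).g (Model.cgens xch) = ⊤ := (m m0 h0).chain_top (xch_ok m0 h0) (hc.trans (by decide +kernel))
theorem xbdd : (m m0 h0).Bdd := (m m0 h0).bdd_of_top (xtop m0 h0 hb hc)
theorem xot : (m m0 h0).OTOK xOT := ((m m0 h0).otok_cons (xch_ok m0 h0) (hc.trans (by decide +kernel)) 1 rfl (Model.via _ (mR m0 h0) (fun R => Model.invB R (Model.cgens (xch.drop 1)) xO0) c14) ((m m0 h0).otok_cons (xch_ok m0 h0) (hc.trans (by decide +kernel)) 1 rfl (Model.via _ (mR m0 h0) (fun R => Model.invB R (Model.cgens (xch.drop 1)) xO1) c13) ((m m0 h0).otok_cons (xch_ok m0 h0) (hc.trans (by decide +kernel)) 1 rfl (Model.via _ (mR m0 h0) (fun R => Model.invB R (Model.cgens (xch.drop 1)) xO2) c12) ((m m0 h0).otok_cons (xch_ok m0 h0) (hc.trans (by decide +kernel)) 0 rfl (Model.via _ (mR m0 h0) (fun R => Model.invB R (Model.cgens (xch.drop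 0)) xO3) c11) (m m0 h0).otok_nil))))
theorem xcm : ∀ w ∈ xCg, (m m0 h0).Cm [[9]] (ev (m m0 h0).g w) := (m m0 h0).cm_of_pairs (all_take_done (all_take_step (all_take_zero _ (xCg.flatMap fun w => [[9]].map fun y => (w ++ y, y ++ w))) ((m m0 h0).pairs_of (base m0 h0 hb hc) (Model.via _ (mR m0 h0) (fun R => pairsB R [2, 1, 0] (((xCg.flatMap fun w => [[9]].map fun y => (w ++ y, y ++ w)).drop 0).take 1)) c15))) (by decide +kernel))
theorem xn1 : (m m0 h0).Sol [[9]] xCg [4216, 1610, 932, 1049, 4020] [4216, 1610, 932, 1049, 4020] := (m m0 h0).sol_done [2, 3, 4] (((m m0 h0).chain_bot (xch_ok m0 h0) (hc.trans (by decide +kernel))).le.trans bot_le) (by decide +kernel)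
theorem xn0 : (m m0 h0).Sol [[9]] xCg [] [] := (m m0 h0).sol_free (xbdd m0 h0 hb hc) (xcm m0 h0 hb hc) (xot m0 h0 hb hc) ((m m0 h0).excl_zero _ _) (Model.via _ (mR m0 h0) (fun R => freeB R xOT [[9]] xCg [] [] [] [] 4020 0 [([], 4020, 3)] [[0]] [0, 0, 0, 0, 0, 0, 0, 0, 0, 0, 0, 0, 0, 0, 0, 0, 0, 0] xc10) c10) ((m m0 h0).solL_leaves (xot m0 h0 hb hc) [0] (Bc := [4216, 1610, 932, 1049, 4020]) (Model.via _ (mR m0 h0) (fun R => cycB R (subst [[9]] [0]) [4216, 1610, 932, 1049, 4020]) c6) (Model.via _ (mR m0 h0) (fun R => allL (leafB R xOT (subst [[9]] [0]) [2, 3, 4] [4216, 1610, 932, 1049, 4020] [] []) xL9) c9) ((m m0 h0).solL_leaves (xot m0 h0 hb hc) [0] (Bc := [4216, 1610, 932, 1049, 4020]) (Model.via _ (mR m0 h0) (fun R => cycB R (subst [[9]] [0]) [4216, 1610, 932, 1049, 4020]) c6) (Model.via _ (mR m0 h0) (fun R => allL (leafB R xOT (subst [[9]] [0]) [2, 3, 4] [4216, 1610, 932, 1049, 4020] [] []) xL8)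 c8) ((m m0 h0).solL_cons ((m m0 h0).sol_cyc [0] (Bc := [4216, 1610, 932, 1049, 4020]) (T := [4216, 1610, 932, 1049, 4020]) rfl (Model.via _ (mR m0 h0) (fun R => cycB R (subst [[9]] [0]) [4216, 1610, 932, 1049, 4020]) c6) (Model.via _ (mR m0 h0) (fun R => cycB R (subst [[9]] [0]) [4216, 1610, 932, 1049, 4020]) c7) (xn1 m0 h0 hb hc)) (m m0 h0).solL_nil)))
theorem xsol : (m m0 h0).Sol [[9]] xCg [] [] := xn0 m0 h0 hb hc
omit hb hc in
theorem ych_ok : (m m0 h0).ChainOK ych [] := ((m m0 h0).chain_cons [0, 1, 0, 1, 0, 1, 0, 1, 0, 1, 0, 1, 0, 1, 0, 1, 0, 1, 0, 1, 0, 0] (Model.via _ (mR m0 h0) (fun R => Model.fixP R [] [[12], [13]]) c22) (Model.via _ (mR m0 h0) (fun R => Model.growP R [[12], [13]] [0, 1, 0, 1, 0, 1, 0, 1, 0, 1, 0, 1, 0, 1, 0, 1, 0, 1, 0, 1, 0, 0] 1725 6156) c23) ((m m0 h0).chain_cons [0, 1, 0, 1, 0, 1, 0, 1, 0, 1, 0, 0, 0] (Model.via _ (mR m0 h0) (fun R => Model.fixP R [1725] [[17], [18]])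 c20) (Model.via _ (mR m0 h0) (fun R => Model.growP R [[17], [18]] [0, 1, 0, 1, 0, 1, 0, 1, 0, 1, 0, 0, 0] 4885 85) c21) ((m m0 h0).chain_cons [0, 1, 0, 1, 0, 0, 1, 0] (Model.via _ (mR m0 h0) (fun R => Model.fixP R [4885, 1725] [[19], [20]]) c18) (Model.via _ (mR m0 h0) (fun R => Model.growP R [[19], [20]] [0, 1, 0, 1, 0, 0, 1, 0] 4965 32) c19) ((m m0 h0).chain_cons [0, 0] (Model.via _ (mR m0 h0) (fun R => Model.fixP R [4965, 4885, 1725] [[21]]) c16) (Model.via _ (mR m0 h0) (fun R => Model.growP R [[21]] [0, 0] 4816 3) c17) ((m m0 h0).chain_nil _)))))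
theorem ytop : gen (m m0 h0).g (Model.cgens ych) = ⊤ := (m m0 h0).chain_top (ych_ok m0 h0) (hc.trans (by decide +kernel))
theorem ybdd : (m m0 h0).Bdd := (m m0 h0).bdd_of_top (ytop m0 h0 hb hc)
theorem yot : (m m0 h0).OTOK yOT := ((m m0 h0).otok_cons (ych_ok m0 h0) (hc.trans (by decide +kernel)) 1 rfl (Model.via _ (mR m0 h0) (fun R => Model.invB R (Model.cgens (ych.drop 1)) yO0) c30) ((m m0 h0).otok_cons (ych_ok m0 h0) (hc.trans (by decide +kernel)) 1 rfl (Model.via _ (mR m0 h0) (fun R => Model.invB R (Model.cgens (ych.drop 1)) yO1) c29) ((m m0 h0).otok_cons (ych_ok m0 h0) (hc.trans (by decide +kernel)) 0 rfl (Model.via _ (mR m0 h0) (fun R => Model.invB R (Model.cgens (ych.drop 0)) yO2) c28) (m m0 h0).otok_nil)))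
theorem ycm : ∀ w ∈ yCg, (m m0 h0).Cm [[10]] (ev (m m0 h0).g w) := (m m0 h0).cm_of_pairs (all_take_done (all_take_step (all_take_zero _ (yCg.flatMap fun w => [[10]].map fun y => (w ++ y, y ++ w))) ((m m0 h0).pairs_of (base m0 h0 hb hc) (Model.via _ (mR m0 h0) (fun R => pairsB R [2, 1, 0] (((yCg.flatMap fun w => [[10]].map fun y => (w ++ y, y ++ w)).drop 0).take 2)) c31))) (by decide +kernel))
theorem yn1 : (m m0 h0).Sol [[10]] yCg [4816, 4965, 4885, 1725] [4816, 4965, 4885, 1725] := (m m0 h0).sol_done [0, 1, 2, 3] (((m m0 h0).chain_bot (ych_ok m0 h0) (hc.trans (by decide +kernel))).le.trans bot_le) (by decide +kernel)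
theorem yn0 : (m m0 h0).Sol [[10]] yCg [] [] := (m m0 h0).sol_free (ybdd m0 h0 hb hc) (ycm m0 h0 hb hc) (yot m0 h0 hb hc) ((m m0 h0).excl_zero _ _) (Model.via _ (mR m0 h0) (fun R => freeB R yOT [[10]] yCg [] [] [] [] 1725 0 [([], 1725, 2)] [[0], [1]] [0, 1, 0, 1, 0, 0, 0, 0, 0, 0] yc27) c27) ((m m0 h0).solL_leaves (yot m0 h0 hb hc) [0] (Bc := [4816, 4965, 4885, 1725]) (Model.via _ (mR m0 h0) (fun R => cycB R (subst [[10]] [0]) [4816, 4965, 4885, 1725]) c24) (Model.via _ (mR m0 h0) (fun R => allL (leafB R yOT (subst [[10]] [0]) [0, 1, 2, 3] [4816, 4965, 4885, 1725] [] []) yL26) c26) ((m m0 h0).solL_cons ((m m0 h0).sol_cyc [0] (Bc := [4816, 4965, 4885, 1725]) (T := [4816, 4965, 4885, 1725]) rfl (Model.via _ (mR m0 h0) (fun R => cycB R (subst [[10]] [0]) [4816, 4965, 4885, 1725]) c24) (Model.via _ (mR m0 h0) (fun R => cycB R (subst [[10]] [0]) [4816, 4965, 4885, 1725]) c25) (yn1 m0 h0 hb hc)) (m m0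 h0).solL_nil))
theorem ysol : (m m0 h0).Sol [[10]] yCg [] [] := yn0 m0 h0 hb hc
theorem inj : Function.Injective (m m0 h0).φ := (m m0 h0).inj_of_base (base m0 h0 hb hc)
theorem gtop : gen (m m0 h0).g ([9, 10, 11].map fun x => [x]) = ⊤ :=
  top_of_marks ((m m0 h0).defsOK_g (inj m0 h0 hb hc) ((mR m0 h0).symm ▸ defs_ok)) _ (xtop m0 h0 hb hc) (by decide +kernel)
theorem cl : ∀ k ∈ Subgroup.centralizer {ev (m m0 h0).g [10]}, ∃ w ∈ CL, k = ev (m m0 h0).g w := fun k hk =>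
  list_closed (all_take_done (all_take_step (all_take_zero _ CE) ((m m0 h0).pairs_of (base m0 h0 hb hc) (Model.via _ (mR m0 h0) (fun R => pairsB R [2, 1, 0] ((CE.drop 0).take 54)) c32))) (by decide +kernel)) (by decide +kernel) k ((m m0 h0).cent_le (ysol m0 h0 hb hc) hk)
theorem ocl : (m m0 h0).OutCl 9 10 11 [(1, []), (2, [10, 10, 10, 10, 10, 10, 10, 10])] :=
  (m m0 h0).outCl (r := 19) (t := 4) (s := 9) (e := 1) (n := 8) (K := [1, 2]) (RL := RL) (EL := EL) hc (by decide +kernel) (by decide +kernel)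
    (all_take_done (all_take_step (all_take_zero _ (Model.outE 9 10 11 [10] 19 4 1 8 RL)) ((m m0 h0).pairs_of (base m0 h0 hb hc) (Model.via _ (mR m0 h0) (fun R => pairsB R [2, 1, 0] (((Model.outE 9 10 11 [10] 19 4 1 8 RL).drop 0).take 6)) c33))) (by decide +kernel)) ((m m0 h0).ne_of_neB (Model.via _ (mR m0 h0) (fun R => neB R [9] [] 0 2557 0) c34)) (xsol m0 h0 hb hc) (cl m0 h0 hb hc)
    (by decide +kernel) (by decide +kernel) (all_take_done (all_take_step (all_take_zero _ EL) (allL_spec (Model.via _ (mR m0 h0) (fun R => allL (elimB R 9 10 11 RL [(1, []), (2, [10, 10, 10, 10, 10, 10, 10, 10])]) ((EL.drop 0).take 54)) c35))) (by decide +kernel))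
theorem outer : ∃ α, α ∉ Cfsg.Inn G :=
  (m m0 h0).exists_outer (inj m0 h0 hb hc) (mR m0 h0) s23 nl3_ok (k := 2) (e := 1) (c := [10, 10, 10, 10, 10, 10, 10, 10]) (gtop m0 h0 hb hc) (by decide +kernel)
    (List.forall_mem_cons.2 ⟨(eq_of_eqW R2 c37), List.forall_mem_cons.2 ⟨(eq_of_eqW R2 c38), List.forall_mem_cons.2 ⟨(eq_of_eqW R2 c39), List.forall_mem_nil _⟩⟩⟩) rfl (cl m0 h0 hb hc) (NL := NL) (by decide +kernel) (all_take_done (all_take_step (all_take_zero _ NL) (allL_spec (Model.via _ (mR m0 h0) (fun R => allL (innB R 9 11 2 [10, 10, 10, 10, 10, 10, 10, 10]) ((NL.drop 0).take 27)) c36))) (by decide +kernel))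
theorem out : Nat.card (Cfsg.Out G) = 2 := (m m0 h0).out_two (gtop m0 h0 hb hc) (ocl m0 h0 hb hc) (outer m0 h0 hb hc)
end H0.OJ3
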